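import Cfsg.Agent.H625.SylConst
import Cfsg.Agent.H870.IMLocal
import Cfsg.Agent.H227.IMConst
import Cfsg.Agent.H648.Loc.Value_m3
import Cfsg.Agent.H657.BrauerFeit
import Cfsg.Agent.S0907
import Cfsg.Agent.H483.Star
import Cfsg.Agent.H53.HC.Flag_m3
import Cfsg.Agent.Prune
set_option linter.all false
prune_inst 0x7f00000000000000000000000000000000000000000000000000000000000000000000000000000000000000000000000000000000000000000000000000000000000000000000000000000000000000003fffffffffffffffffffffffffffbeffbdffffffff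
open scoped Cfsg.Agent.FastGrp

/-!
# Criteria for `IMC` (S4526, helper661)

`IMC p G` : some irreducible character of degree divisible by `p` is a constituent of `1_P^G`, `P ∈ Syl_p(G)`.

* `imc_of_block` : all characters of some `p`-block have degree divisible by `p`;
* `imc_of_centralChar`, `imc_of_NN` : a central character which does not vanish modulo `M` at a class of length divisible by `p`;
* `imc_of_loc` : `p = 2`, from the rows `loc_*` of S5004 / S5009;
* `imc_of_RD`, `imc_of_brauer`, `imc_of_quotients`, `imc_of_defect`, `imc_of_local` : the criteria of `H33.RD`;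
* `imc_of_pow` : some degree is divisible by `p` and by `p ^ (d - 1)`, `|G|_p = p ^ d` (Brauer-Feit);
  `imc_of_IM` : `p ^ 3 ∤ |G|`, from `IM p G`;
* `fix_orbSum` : fixed vectors in sums over fixed points (see also `Fix.lean`).
-/

set_option autoImplicit false

open Cfsg
open scoped ComplexConjugate

namespace Cfsg.Agent.H661.SC

open Cfsg.Agent.Characters.Core Cfsg.Agent.Blocks Cfsg.Agent.H625.SylConst Cfsg.Agent.H652.Four
open Cfsg.Agent.OddOrderCharacters.Clifford Cfsg.Agent.Characters

universe u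

variable {G : Type u} [Group G] [Finite G] {p : ℕ} [hp : Fact p.Prime] {M : Ideal AlgInt}

/-- **Blocks.** If all characters of a `p`-block have degree divisible by `p`, then one of them is a constituent
of the permutation character on the cosets of a Sylow `p`-subgroup. -/
theorem imc_of_block (hM : IsPModular p M) {B : Set (IrrCharacter G)} (hB : IsPBlock M B)
    (h : ∀ χ ∈ B, p ∣ charDegree (χ : G → ℂ)) : IMC p G := by
  classical
  have := Fintype.ofFinite G
  have : Finite (IrrCharacter G) := finite_irr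
  have := Fintype.ofFinite (IrrCharacter G)
  obtain ⟨P⟩ : Nonempty (Sylow p G) := inferInstance
  have : Fintype (P : Subgroup G) := Fintype.ofFinite _
  by_contra hcon
  have h0 : ∀ χ ∈ B, ∑ z : (P : Subgroup G), (χ : G → ℂ) z = 0 := by
    intro χ hχ
    by_contra h1
    exact hcon ⟨χ, P, h χ hχ, (fix_iff _ _).2 h1⟩
  -- sum over the block
  have h1 : ∑ z : (P : Subgroup G), ∑ᶠ χ ∈ B, (χ : G → ℂ) 1 * conj ((χ : G → ℂ) (z : G)) =
      ∑ᶠ χ ∈ B, (χ : G → ℂ) 1 * conj ((χ : G → ℂ) 1) := by
    rw [Finset.sum_eq_single (1 : (P : Subgroup G))]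
    · rfl
    · intro z _ hz
      refine Cfsg.Agent.S0907.result p M hM B hB 1 z ?_ ?_
      · rw [orderOf_one]; exact hp.out.one_lt.not_ge ∘ Nat.le_of_dvd one_pos
      · obtain ⟨k, hk⟩ := (IsPGroup.iff_orderOf.1 P.isPGroup') z
        rw [Subgroup.orderOf_coe, hk]
        apply dvd_pow_self
        rintro rfl
        rw [pow_zero, orderOf_eq_one_iff] at hk
        exact hz hk
    · intro h2
      exact absurd (Finset.mem_univ _) h2
  have h2 : ∑ z : (P : Subgroup G), ∑ᶠ χ ∈ B, (χ : G → ℂ) 1 * conj ((χ : G → ℂ) (z : G)) = 0 := by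
    have e : ∀ z : (P : Subgroup G), ∑ᶠ χ ∈ B, (χ : G → ℂ) 1 * conj ((χ : G → ℂ) (z : G)) =
        ∑ χ ∈ Finset.univ.filter (· ∈ B), (χ : G → ℂ) 1 * conj ((χ : G → ℂ) (z : G)) :=
      fun z => Orthogonality.finsum_mem_eq_sum_filter _ _
    rw [Finset.sum_congr rfl fun z _ => e z, Finset.sum_comm]
    refine Finset.sum_eq_zero fun χ hχ => ?_
    rw [← Finset.mul_sum, ← map_sum, h0 χ (Finset.mem_filter.1 hχ).2, map_zero, mul_zero]
  rw [h1, Orthogonality.finsum_mem_eq_sum_filter] at h2
  have hMp : M.IsPrime := Cfsg.Agent.Blocks.Local.isPrime_of_isPModular hM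
  obtain ⟨χ₀, hχ₀⟩ := Cfsg.Agent.Blocks.Basic.isPBlock_nonempty hB
  have h3 : (∑ χ ∈ Finset.univ.filter (· ∈ B), ((charDegree (χ : G → ℂ) : ℝ) * charDegree (χ : G → ℂ)) : ℝ) = 0 := by
    have h4 : ((∑ χ ∈ Finset.univ.filter (· ∈ B),
        ((charDegree (χ : G → ℂ) : ℝ) * charDegree (χ : G → ℂ)) : ℝ) : ℂ) = 0 := by
      rw [← h2, Complex.ofReal_sum]
      refine Finset.sum_congr rfl fun χ _ => ?_
      rw [Basic.irr_one_eq_charDegree χ.2]
      simp
    exact_mod_cast h4
  rw [Finset.sum_eq_zero_iff_of_nonneg fun χ _ => by positivity] at h3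
  have h5 := h3 χ₀ (Finset.mem_filter.2 ⟨Finset.mem_univ _, hχ₀⟩)
  have h6 : 0 < charDegree (χ₀ : G → ℂ) := Basic.charDegree_pos χ₀.2
  have h7 : (0 : ℝ) < charDegree (χ₀ : G → ℂ) := by exact_mod_cast h6
  nlinarith

/-- A central character which does not vanish modulo `M` at a class of length divisible by `p`. -/
theorem imc_of_centralChar (hM : IsPModular p M) {x : G} {χ : IrrCharacter G}
    (h : ¬ MemLocalIdeal M (centralChar (χ : G → ℂ) x)) (hd : p ∣ (Subgroup.centralizer ({x} : Set G)).index) :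
    IMC p G := by
  refine imc_of_block hM (B := blockOf M (χ : G → ℂ)) ⟨χ, rfl⟩ fun ψ hψ => ?_
  have h1 : ¬ MemLocalIdeal M (centralChar (ψ : G → ℂ) x) := by
    intro h2
    apply h
    have h3 := LocalRing.memLocalIdeal_add hM h2 (hψ x)
    rwa [add_sub_cancel] at h3
  have h4 := dvd_charDegree hM h1 (k := 1) (by rwa [pow_one])
  rwa [pow_one] at h4

theorem imc_of_NN (hM : IsPModular p M) {x : G} (h : NN M (cl x))
    (hd : p ∣ (Subgroup.centralizer ({x} : Set G)).index) : IMC p G := by
  obtain ⟨χ, hχ⟩ := h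
  rw [om_cl χ.2] at hχ
  exact imc_of_centralChar hM hχ hd

/-- `p = 2`: from the rows of S5004 / S5009. -/
theorem imc_of_loc (h : Loc G) : IMC 2 G := by
  obtain ⟨x, hx, hN⟩ := h
  obtain ⟨M, hM⟩ := exists_two_modular
  have : Fact (Nat.Prime 2) := ⟨Nat.prime_two⟩
  exact imc_of_NN hM (hN M hM) (dvd_trans (by norm_num) hx)

/-- The criterion of `H33.RD`: `p` divides the class length of `s` and no quotient of two conjugates of `s` is a
nontrivial `p`-element. -/
theorem imc_of_quotients {s : G} (hd : p ∣ (Subgroup.centralizer ({s} : Set G)).index)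
    (hs : ∀ g h : G, IsConj s g → IsConj s h → (∃ k : ℕ, orderOf (g * h⁻¹) = p ^ k) → g = h) :
    IMC p G := by
  obtain ⟨M, hM⟩ := Cfsg.Agent.Blocks.Knorr.exists_isPModular p
  obtain ⟨P⟩ : Nonempty (Sylow p G) := inferInstance
  obtain ⟨χ, hχ⟩ := H33.exists_centralChar hM s P (by
    intro g h hg hh hP
    have h1 := hs g h hg hh ?_
    · rw [h1, mul_inv_cancel]
    · obtain ⟨k, hk⟩ := IsPGroup.iff_orderOf.1 P.isPGroup' ⟨_, hP⟩
      exact ⟨k, by rw [← hk, Subgroup.orderOf_mk]⟩)
  exact imc_of_centralChar hM hχ hd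

/-- **Large `p`-parts** (Brauer-Feit): `|G|_p = p ^ d`, some degree divisible by `p` and by `p ^ (d - 1)`. -/
theorem imc_of_pow (χ : IrrCharacter G) (hd : p ∣ charDegree (χ : G → ℂ))
    (h : p ^ ((Nat.card G).factorization p - 1) ∣ charDegree (χ : G → ℂ)) : IMC p G := by
  classical
  have := Fintype.ofFinite G
  obtain ⟨M, hM⟩ := Cfsg.Agent.Blocks.Knorr.exists_isPModular p
  set B : Set (IrrCharacter G) := blockOf M (χ : G → ℂ) with hBdef
  have hB : IsPBlock M B := ⟨χ, rfl⟩
  have hχB : χ ∈ B := fun g => by rw [sub_self]; exact Blocks.LocalRing.memLocalIdeal_zero hM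
  by_cases hall : ∀ ψ ∈ B, p ∣ charDegree (ψ : G → ℂ)
  · exact imc_of_block hM hB hall
  push Not at hall
  obtain ⟨ψ, hψ, hψd⟩ := hall
  exfalso
  have hinf : sInf ((fun ψ : IrrCharacter G => (charDegree (ψ : G → ℂ)).factorization p) '' B) = 0 := by
    rw [Nat.sInf_eq_zero]
    exact Or.inl ⟨ψ, hψ, Nat.factorization_eq_zero_of_not_dvd hψd⟩
  have h0 : charDegree (χ : G → ℂ) ≠ 0 := (Basic.charDegree_pos χ.2).ne'
  have h1 : 1 ≤ (charDegree (χ : G → ℂ)).factorization p := (hp.out.dvd_iff_one_le_factorization h0).1 hd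
  have h2 : (Nat.card G).factorization p - 1 ≤ (charDegree (χ : G → ℂ)).factorization p :=
    (hp.out.pow_dvd_iff_le_factorization h0).1 h
  have hht : blockHeight p B (χ : G → ℂ) = (charDegree (χ : G → ℂ)).factorization p := by
    unfold blockHeight; rw [hinf, Nat.sub_zero]
  have hdf : blockDefect p B = (Nat.card G).factorization p := by
    unfold blockDefect; rw [hinf, Nat.sub_zero]
  have h3 := H657.BrauerFeit.height_add_two_le hM hB hχB (by rw [hht]; omega)
  rw [hht, hdf] at h3
  omega

/-- `p ^ 3 ∤ |G|`. -/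
theorem imc_of_IM (h3 : ¬ p ^ 3 ∣ Nat.card G) (h : H33.IM p G) : IMC p G := by
  obtain ⟨χ, hχ⟩ := h
  refine imc_of_pow χ hχ ?_
  have h0 : Nat.card G ≠ 0 := Nat.card_pos.ne'
  have h1 : (Nat.card G).factorization p < 3 := by
    by_contra hcon
    exact h3 ((hp.out.pow_dvd_iff_le_factorization h0).2 (not_lt.1 hcon))
  refine (pow_dvd_pow p (n := 1) (by omega)).trans ?_
  rwa [pow_one]

/-- A character of `H`, `C_G(D) ≤ H ≤ N_G(D)`, whose Brauer central character does not vanish at `u`. -/
theorem imc_of_brauer (hM : IsPModular p M) {D H : Subgroup G} (hD : IsPGroup p D)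
    (hCH : Subgroup.centralizer (D : Set G) ≤ H) (hHN : H ≤ Subgroup.normalizer (D : Set G))
    {ξ : H → ℂ} (hξ : IsIrrCharacter H ξ) {u : G} (hu : ¬ MemLocalIdeal M (brauerCentralChar D H ξ u))
    (hd : p ∣ (Subgroup.centralizer ({u} : Set G)).index) : IMC p G := by
  obtain ⟨χ, hχ⟩ := H33.exists_of_brauer hM hD hCH hHN hξ hu
  exact imc_of_centralChar hM hχ hd

/-- **Blocks of non-maximal defect.** -/
theorem imc_of_defect (hM : IsPModular p M) {B : Set (IrrCharacter G)} (hB : IsPBlock M B) {D : Subgroup G}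
    (hD : IsDefectGroup p M B D) (hidx : p ∣ D.index) : IMC p G := by
  refine imc_of_block hM hB fun χ hχ => ?_
  have h1 := Cfsg.Agent.H592.Defect.le_degree_add p hM hB hD hχ
  have h2 := D.card_mul_index
  rw [← h2, Nat.factorization_mul Nat.card_pos.ne' Subgroup.index_ne_zero_of_finite, Finsupp.add_apply] at h1
  have h3 : 1 ≤ D.index.factorization p := hp.out.factorization_pos_of_dvd Subgroup.index_ne_zero_of_finite hidx
  exact (hp.out.dvd_iff_one_le_factorization (Basic.charDegree_pos χ.2).ne').2 (by omega)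

/-- **T3**: a `p`-subgroup `D`, `p ∣ |G : D|`, whose centralizer has a character of defect zero modulo `Z(D)`, all
`p`-elements of `N_G(D)` lying in `D C_G(D)`. -/
theorem imc_of_local (D : Subgroup G) (hD : IsPGroup p D) (hidx : p ∣ D.index)
    (θ : IrrCharacter (Subgroup.centralizer (D : Set G)))
    (hdeg : (Nat.card (Subgroup.centralizer (D : Set G))).factorization p ≤
      (charDegree (θ : Subgroup.centralizer (D : Set G) → ℂ)).factorization p +
      (Nat.card ↥(D ⊓ Subgroup.centralizer (D : Set G))).factorization p)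
    (hst : ∀ g : G, g ∈ Subgroup.normalizer (D : Set G) → (∃ k : ℕ, orderOf g = p ^ k) →
      g ∈ D ⊔ Subgroup.centralizer (D : Set G)) : IMC p G := by
  classical
  obtain ⟨M, hM⟩ := Cfsg.Agent.Blocks.Knorr.exists_isPModular p
  have : M.IsPrime := Local.isPrime_of_isPModular hM
  set e : Set (IrrCharacter (Subgroup.centralizer (D : Set G))) :=
    blockOf M (θ : Subgroup.centralizer (D : Set G) → ℂ) with he
  have heB : IsPBlock M e := ⟨θ, rfl⟩
  have hθe : θ ∈ e := fun g => by rw [sub_self]; exact Blocks.LocalRing.memLocalIdeal_zero hM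
  have hrev : (charDegree (θ : Subgroup.centralizer (D : Set G) → ℂ)).factorization p +
      (Nat.card ↥(D ⊓ Subgroup.centralizer (D : Set G))).factorization p ≤
      (Nat.card (Subgroup.centralizer (D : Set G))).factorization p := by
    obtain ⟨d, ρ, hρ, hχ⟩ := θ.2
    have hZ : D.subgroupOf (Subgroup.centralizer (D : Set G)) ≤
        Subgroup.center (Subgroup.centralizer (D : Set G)) :=
      Cfsg.Agent.H686.PairCrit.subgroupOf_le_center D
    have hn : (D.subgroupOf (Subgroup.centralizer (D : Set G))).Normal := by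
      constructor
      intro x hx g
      have h1 := Subgroup.mem_center_iff.1 (hZ hx) g
      rw [h1, mul_inv_cancel_right]
      exact hx
    have hdvd := Cfsg.Agent.S0169.result ρ (D.subgroupOf (Subgroup.centralizer (D : Set G)))
      (fun a ha b _ => ((Subgroup.mem_center_iff.1 (hZ ha)) b).symm)
    have h2 : charDegree (θ : Subgroup.centralizer (D : Set G) → ℂ) = d := by
      apply H670.PSing.charDegree_eq_of
      rw [← hχ, Representation.char_one]
      simp
    rw [Module.finrank_fin_fun, ← h2] at hdvd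
    have h3 := (Nat.factorization_le_iff_dvd
      (Basic.charDegree_pos θ.2).ne' Subgroup.index_ne_zero_of_finite).2 hdvd p
    have h4 : Nat.card (D.subgroupOf (Subgroup.centralizer (D : Set G))) =
        Nat.card ↥(D ⊓ Subgroup.centralizer (D : Set G)) := by
      have h5 : Nat.card ((D.subgroupOf (Subgroup.centralizer (D : Set G))).map
          (Subgroup.centralizer (D : Set G)).subtype) =
          Nat.card (D.subgroupOf (Subgroup.centralizer (D : Set G))) :=
        Subgroup.card_map_of_injective (Subgroup.subtype_injective _)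
      rw [Subgroup.subgroupOf_map_subtype] at h5
      exact h5.symm
    have h6 := (D.subgroupOf (Subgroup.centralizer (D : Set G))).card_mul_index
    rw [← h6, h4, Nat.factorization_mul Nat.card_pos.ne' Subgroup.index_ne_zero_of_finite,
      Finsupp.add_apply]
    omega
  obtain ⟨B, hB⟩ := Cfsg.Agent.H686.PairCrit.crit_mpr hM (Q := D) (e := e) ⟨hD, heB⟩ hθe
    (le_antisymm hrev hdeg) (fun g hg _ hk => hst g hg hk)
  exact imc_of_defect hM hB.1.2.1 (Cfsg.Agent.H644.isDefectGroup_of_isMaximalBrauerPair hM hB) hidx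

/-! ### fixed vectors in induced characters -/

end Cfsg.Agent.H661.SC
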