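import Cfsg.Agent.H661.SC.Base
import Cfsg.Agent.H477.HC.Levi
import Cfsg.Agent.H477.HC.Arith_m3
import Cfsg.Agent.H477.HC.RowSp
import Cfsg.Agent.FastGrp
import Cfsg.Agent.Prune
set_option linter.all false
prune_inst 0x7f00000000000000000000000000000000000000000000000000000000000000000000000000000000000000000000000000000000000000000000000000000000000000000000000000000000000000003fffffffffffffffffffffffffffbeffbdfbfeffff
open scoped Cfsg.Agent.FastGrp

/-!
# Fixed vectors of `p`-subgroups (S4526, helper661)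

* `FixAll p χ` : every `p`-subgroup has a nonzero fixed vector in `χ`; `FixAll.of_sylow`, `FixAll.comp`, `FixAll.comp_of_mono`;
* `fix_indFun`, `FixAll.indFun` : induced characters;
* `fixAll_flagChar` : the characters `flagChar`; `CForm.fixAll_hc` : the characters `F.hc c 1`;
* `FixAll.res` : some constituent of the restriction to a subgroup; `imc_down` : from `I` to `N / Z(N)`;
* `FixAll.imc`.
-/

set_option autoImplicit false

open Cfsg
open scoped ComplexConjugate

namespace Cfsg.Agent.H661.SC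

open Cfsg.Agent.Characters.Core Cfsg.Agent.H625.SylConst Cfsg.Agent.OddOrderCharacters.Clifford
  Cfsg.Agent.OddOrderCharacters.IndRes Cfsg.Agent.OddOrderCharacters.PF9.CliffGen

universe u v w

/-- every `p`-subgroup has a nonzero fixed vector in `χ` -/
def FixAll {G : Type u} [Group G] (p : ℕ) (χ : G → ℂ) : Prop := ∀ R : Subgroup G, IsPGroup p R → Fix R χ

section general

variable {G : Type u} [Group G] [Finite G] {p : ℕ} [hp : Fact p.Prime]

theorem FixAll.of_sylow {χ : G → ℂ} (hχ : IsCharacter G χ) (P : Sylow p G) (h : Fix (P : Subgroup G) χ) :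
    FixAll p χ := by
  intro R hR
  obtain ⟨Q, hQ⟩ := hR.exists_le_sylow
  obtain ⟨g, hg⟩ := MulAction.exists_smul_eq G P Q
  refine Fix.mono hQ hχ ?_
  rw [← hg]
  exact fix_conj (P : Subgroup G) (isCharacter_isClassFunction hχ) g h

omit [Finite G] hp in
theorem FixAll.imc [Finite G] [Fact p.Prime] (χ : IrrCharacter G) (h : FixAll p (χ : G → ℂ)) (hd : p ∣ charDegree (χ : G → ℂ)) :
    IMC p G := by
  obtain ⟨P⟩ : Nonempty (Sylow p G) := inferInstance
  exact ⟨χ, P, hd, h _ P.isPGroup'⟩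

omit hp in
/-- composition with a homomorphism -/
theorem FixAll.comp {H : Type v} [Group H] (f : G →* H) {χ : H → ℂ} (h : FixAll p χ) : FixAll p (χ ∘ f) :=
  fun R hR => fix_comp f R (h _ (hR.map f))

/-- a `p`-subgroup on which `χ` is positive -/
theorem fix_of_re {R : Subgroup G} {χ : G → ℂ} (h1 : 0 < (χ 1).re) (h : ∀ z ∈ R, 0 ≤ (χ z).re) : Fix R χ := by
  have := Fintype.ofFinite R
  rw [fix_iff]
  intro h0
  have h2 : (∑ z : R, χ (z : G)).re = 0 := by rw [h0, Complex.zero_re]
  rw [Complex.re_sum] at h2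
  have h3 : (χ ((1 : R) : G)).re ≤ ∑ z : R, (χ (z : G)).re :=
    Finset.single_le_sum (f := fun z : R => (χ (z : G)).re) (fun z _ => h z z.2) (Finset.mem_univ (1 : R))
  rw [h2] at h3
  exact absurd h3 (not_le.2 h1)

end general

section induced

variable {G : Type u} [Group G] [Fintype G] {p : ℕ}

/-- **Mackey**: a fixed vector of `Q ⊓ H` in `ψ` gives one of `Q` in the induced character. -/
theorem fix_indFun (H : Subgroup G) [Fintype H] (Q : Subgroup G) {ψ : H → ℂ} (hψ : IsCharacter H ψ)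
    (h : Fix (Q.subgroupOf H) ψ) : Fix Q (indFun H ψ) := by
  classical
  have := Fintype.ofFinite Q
  rw [fix_iff]
  have h1 : ∑ z : Q, indFun H ψ (z : G) =
      (Nat.card H : ℂ)⁻¹ * ∑ x : G, ∑ z : Q, extendByZero H ψ (x⁻¹ * z * x) := by
    unfold indFun
    rw [← Finset.mul_sum, Finset.sum_comm]
  rw [h1]
  refine mul_ne_zero (inv_ne_zero (by exact_mod_cast Nat.card_pos.ne')) ?_
  -- each inner sum is a natural number
  have key : ∀ x : G, ∃ m : ℕ, ∑ z : Q, extendByZero H ψ (x⁻¹ * z * x) = m := by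
    intro x
    let L : Subgroup H := (Q.map (MulAut.conj x⁻¹).toMonoidHom).subgroupOf H
    have : Fintype L := Fintype.ofFinite _
    obtain ⟨m, hm⟩ := exists_nat L hψ
    refine ⟨m, ?_⟩
    rw [← hm]
    have h3 : ∀ z : Q, x⁻¹ * (z : G) * x ∉ H → extendByZero H ψ (x⁻¹ * z * x) = 0 := by
      intro z hz
      unfold extendByZero
      apply Function.extend_apply'
      rintro ⟨y, hy⟩
      exact hz (hy ▸ y.2)
    rw [← Finset.sum_filter_add_sum_filter_not Finset.univ (fun z : Q => x⁻¹ * (z : G) * x ∈ H)]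
    rw [Finset.sum_eq_zero (s := Finset.univ.filter fun z : Q => ¬ x⁻¹ * (z : G) * x ∈ H)
      (fun z hz => h3 z (Finset.mem_filter.1 hz).2), add_zero]
    refine Finset.sum_bij' (fun z hz => (⟨⟨x⁻¹ * (z : G) * x, (Finset.mem_filter.1 hz).2⟩, ?_⟩ : L))
      (fun y _ => (⟨x * ((y : H) : G) * x⁻¹, ?_⟩ : Q)) ?_ ?_ ?_ ?_ ?_
    · rw [Subgroup.mem_subgroupOf]
      refine ⟨z, z.2, ?_⟩
      change x⁻¹ * (z : G) * (x⁻¹)⁻¹ = x⁻¹ * (z : G) * x
      rw [inv_inv]
    · obtain ⟨z, hz, hzy⟩ := Subgroup.mem_subgroupOf.1 y.2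
      have e : x⁻¹ * z * (x⁻¹)⁻¹ = ((y : H) : G) := hzy
      rw [← e]
      have e2 : x * (x⁻¹ * z * (x⁻¹)⁻¹) * x⁻¹ = z := by group
      rw [e2]
      exact hz
    · intro z hz; exact Finset.mem_univ _
    · intro y _
      rw [Finset.mem_filter]
      refine ⟨Finset.mem_univ _, ?_⟩
      have e2 : x⁻¹ * (x * ((y : H) : G) * x⁻¹) * x = ((y : H) : G) := by group
      change x⁻¹ * (x * ((y : H) : G) * x⁻¹) * x ∈ H
      rw [e2]
      exact (y : H).2
    · intro z hz
      apply Subtype.ext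
      change x * (x⁻¹ * (z : G) * x) * x⁻¹ = (z : G)
      group
    · intro y _
      apply Subtype.ext
      apply Subtype.ext
      change x⁻¹ * (x * ((y : H) : G) * x⁻¹) * x = ((y : H) : G)
      group
    · intro z hz
      exact ext_apply_mem _ _ _ _
  choose m hm using key
  rw [Finset.sum_congr rfl fun x _ => hm x, ← Nat.cast_sum, Nat.cast_ne_zero]
  have h4 : m 1 ≠ 0 := by
    intro h0
    have := Fintype.ofFinite (Q.subgroupOf H)
    have h5 := hm 1
    rw [h0, Nat.cast_zero] at h5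
    apply (fix_iff _ _).1 h
    rw [← h5]
    have h3 : ∀ z : Q, (1 : G)⁻¹ * (z : G) * 1 ∉ H → extendByZero H ψ ((1 : G)⁻¹ * z * 1) = 0 := by
      intro z hz
      unfold extendByZero
      apply Function.extend_apply'
      rintro ⟨y, hy⟩
      exact hz (hy ▸ y.2)
    rw [← Finset.sum_filter_add_sum_filter_not Finset.univ (fun z : Q => (1 : G)⁻¹ * (z : G) * 1 ∈ H)]
    rw [Finset.sum_eq_zero (s := Finset.univ.filter fun z : Q => ¬ (1 : G)⁻¹ * (z : G) * 1 ∈ H)
      (fun z hz => h3 z (Finset.mem_filter.1 hz).2), add_zero]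
    symm
    refine Finset.sum_bij' (fun z hz => (⟨⟨(1 : G)⁻¹ * (z : G) * 1, (Finset.mem_filter.1 hz).2⟩, ?_⟩ :
      Q.subgroupOf H)) (fun y _ => (⟨((y : H) : G), Subgroup.mem_subgroupOf.1 y.2⟩ : Q)) ?_ ?_ ?_ ?_ ?_
    · rw [Subgroup.mem_subgroupOf]
      change (1 : G)⁻¹ * (z : G) * 1 ∈ Q
      rw [inv_one, one_mul, mul_one]
      exact z.2
    · intro z hz; exact Finset.mem_univ _
    · intro y _
      rw [Finset.mem_filter]
      refine ⟨Finset.mem_univ _, ?_⟩
      change (1 : G)⁻¹ * ((y : H) : G) * 1 ∈ H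
      rw [inv_one, one_mul, mul_one]
      exact (y : H).2
    · intro z hz
      apply Subtype.ext
      change (1 : G)⁻¹ * (z : G) * 1 = (z : G)
      rw [inv_one, one_mul, mul_one]
    · intro y _
      apply Subtype.ext
      apply Subtype.ext
      change (1 : G)⁻¹ * ((y : H) : G) * 1 = ((y : H) : G)
      rw [inv_one, one_mul, mul_one]
    · intro z hz
      exact ext_apply_mem _ _ _ _
  intro h0
  exact h4 (Finset.sum_eq_zero_iff.1 h0 1 (Finset.mem_univ _))

theorem FixAll.indFun (H : Subgroup G) [Fintype H] {ψ : H → ℂ} (hψ : IsCharacter H ψ) (h : FixAll p ψ) :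
    FixAll p (indFun H ψ) := fun R hR =>
  fix_indFun H R hψ (h _ (hR.comap_of_injective H.subtype H.subtype_injective))

end induced

section flags

open Cfsg.Agent.H53.HC Module

variable {K : Type u} [Field K] {n : ℕ} {V : Type v} [AddCommGroup V] [Module K V] {G : Type w} [Group G] [Finite G]
  {p : ℕ}

/-- **Fixed vectors in `flagChar`.** -/
theorem fixAll_flagChar [Finite K] (ρ : G →* (V ≃ₗ[K] V)) (Ω : Set (Submodule K V)) [Fintype Ω]
    {Ψ : GL (Fin n) K → ℂ} (hΨ : IsCharacter _ Ψ) (hfin : ∀ W ∈ Ω, ∃ _ : FiniteDimensional K W, finrank K W = n)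
    (hne : Ω.Nonempty) (h : FixAll p Ψ) : FixAll p (flagChar ρ Ω Ψ) := by
  classical
  intro R hR
  have : Fintype R := Fintype.ofFinite R
  rw [fix_iff]
  unfold flagChar
  rw [Finset.sum_comm]
  have hcl := isCharacter_isClassFunction hΨ
  -- the sum at one subspace
  have key : ∀ W : Ω, ∃ m : ℕ, m ≠ 0 ∧ ∑ z : R, flagTerm ρ Ψ (z : G) W.1 = m := by
    rintro ⟨W, hW⟩
    obtain ⟨hf, hn⟩ := hfin W hW
    let b : Basis (Fin n) K W := finBasisOfFinrankEq K W hn
    let f : (stabW ρ W).subgroupOf R →* GL (Fin n) K :=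
      (glE b).toMonoidHom.comp ((resHom ρ W).comp (
        (⟨⟨fun x => ⟨((x : R) : G), x.2⟩, rfl⟩, fun _ _ => rfl⟩ :
          (stabW ρ W).subgroupOf R →* stabW ρ W)))
    have : Fintype ((stabW ρ W).subgroupOf R) := Fintype.ofFinite _
    have : Fintype f.range := Fintype.ofFinite _
    have e1 : ∑ z : R, flagTerm ρ Ψ (z : G) W = ∑ y : (stabW ρ W).subgroupOf R, Ψ (f y) := by
      rw [← Finset.sum_filter_add_sum_filter_not Finset.univ (fun z : R => (z : G) ∈ stabW ρ W)]
      rw [Finset.sum_eq_zero (s := Finset.univ.filter fun z : R => ¬ (z : G) ∈ stabW ρ W) (fun z hz => by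
        unfold flagTerm
        rw [dif_neg]
        exact (Finset.mem_filter.1 hz).2), add_zero]
      refine Finset.sum_bij' (fun z hz => (⟨z, Subgroup.mem_subgroupOf.2 (Finset.mem_filter.1 hz).2⟩ :
        (stabW ρ W).subgroupOf R)) (fun y _ => (y : R)) ?_ ?_ ?_ ?_ ?_
      · intro z hz; exact Finset.mem_univ _
      · intro y _; exact Finset.mem_filter.2 ⟨Finset.mem_univ _, Subgroup.mem_subgroupOf.1 y.2⟩
      · intro z hz; rfl
      · intro y _; rfl
      · intro z hz
        have h2 : (z : G) ∈ stabW ρ W := (Finset.mem_filter.1 hz).2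
        rw [flagTerm_of ρ Ψ h2, cl_eq hcl b]
        rfl
    have e2 : ∑ y : (stabW ρ W).subgroupOf R, Ψ (f y) = (Nat.card f.rangeRestrict.ker : ℂ) * ∑ u : f.range, Ψ u :=
      sum_comp_hom f.rangeRestrict f.rangeRestrict_surjective (fun u => Ψ u)
    obtain ⟨m, hm⟩ := exists_nat f.range hΨ
    have hp' : IsPGroup p f.range := by
      have h3 : IsPGroup p ((stabW ρ W).subgroupOf R) := hR.to_subgroup _
      exact h3.of_surjective f.rangeRestrict f.rangeRestrict_surjective
    have h4 := (fix_iff _ _).1 (h f.range hp')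
    rw [hm] at h4
    refine ⟨Nat.card f.rangeRestrict.ker * m, mul_ne_zero Nat.card_pos.ne' (by exact_mod_cast h4), ?_⟩
    rw [e1, e2, hm, Nat.cast_mul]
  choose m hm0 hm using key
  rw [Finset.sum_congr rfl fun W _ => hm W, ← Nat.cast_sum, Nat.cast_ne_zero]
  obtain ⟨W, hW⟩ := hne
  intro h0
  exact hm0 ⟨W, hW⟩ (Finset.sum_eq_zero_iff.1 h0 ⟨W, hW⟩ (Finset.mem_univ _))

end flags

section down

open Cfsg.Agent.H477.HC

variable {p : ℕ} [hp : Fact p.Prime]

/-- the sum over a subgroup and a surjective homomorphism -/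
theorem fix_of_comp {G : Type u} [Group G] [Finite G] {H : Type v} [Group H] (f : G →* H) (P : Subgroup G)
    {χ : H → ℂ} (h : Fix P (χ ∘ f)) : Fix (P.map f) χ := by
  classical
  have := Fintype.ofFinite P
  have : Finite (P.map f) := Finite.of_surjective (fun x : P => (⟨f x, Subgroup.mem_map_of_mem f x.2⟩ : P.map f))
    (by rintro ⟨_, x, hx, rfl⟩; exact ⟨⟨x, hx⟩, rfl⟩)
  have := Fintype.ofFinite (P.map f)
  rw [fix_iff] at h ⊢
  have h1 := H53.HC.sum_comp_hom (f.subgroupMap P) (f.subgroupMap_surjective P) (fun w => χ (w : H))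
  intro h2
  apply h
  rw [h2, mul_zero] at h1
  exact h1

/-- a constituent of the restriction with a fixed vector -/
theorem exists_constituent_fix {N : Type u} [Group N] [Fintype N] {α : N → ℂ} (hα : IsCharacter N α)
    (P : Subgroup N) (h : Fix P α) : ∃ θ : N → ℂ, IsIrrCharacter N θ ∧ classInner α θ ≠ 0 ∧ Fix P θ := by
  classical
  have : Finite (IrrCharacter N) := finite_irr
  let _ : Fintype (IrrCharacter N) := Fintype.ofFinite _
  have := Fintype.ofFinite P
  obtain ⟨m, hm⟩ := isCharacter_iff.1 hα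
  have hsum := (fix_iff _ _).1 h
  have h2 : ∑ z : P, α (z : N) = ∑ χ : IrrCharacter N, (m χ : ℂ) * ∑ z : P, (χ : N → ℂ) (z : N) := by
    rw [hm]
    simp only [Finset.sum_apply, Finset.mul_sum]
    rw [Finset.sum_comm]
    refine Finset.sum_congr rfl fun χ _ => Finset.sum_congr rfl fun z _ => ?_
    rw [Pi.smul_apply, nsmul_eq_mul]
  rw [h2] at hsum
  obtain ⟨χ, -, hχ⟩ := Finset.exists_ne_zero_of_sum_ne_zero hsum
  rw [mul_ne_zero_iff] at hχ
  refine ⟨χ, χ.2, ?_, (fix_iff _ _).2 hχ.2⟩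
  rw [hm, classInner_sum_nsmul_irr]
  exact hχ.1

/-- central elements in the kernel -/
theorem central_of_constituent {N : Type u} [Group N] [Fintype N] {α θ : N → ℂ} (hα : IsCharacter N α)
    (hθ : IsIrrCharacter N θ) (h : classInner α θ ≠ 0) {z : N} (hzc : z ∈ Subgroup.center N) (hzα : α z = α 1) :
    θ z = θ 1 := by
  obtain ⟨l, hl⟩ := central_mul hθ hzc
  have e0 : ∑ n : N, α n * conj (θ n) = conj l * ∑ n : N, α n * conj (θ n) := by
    calc ∑ n : N, α n * conj (θ n)
        = ∑ n : N, α (n * z) * conj (θ (n * z)) :=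
          (Equiv.sum_comp (Equiv.mulRight z) (fun n => α n * conj (θ n))).symm
      _ = _ := by
          rw [Finset.mul_sum]
          refine Finset.sum_congr rfl fun n _ => ?_
          rw [hl, map_mul, kernel_mul hα hzα n]
          ring
  have e1 : classInner α θ = conj l * classInner α θ := by
    rw [classInner_def, mul_left_comm, ← e0]
  have e2 : conj l = 1 := by
    have : (conj l - 1) * classInner α θ = 0 := by
      rw [sub_mul, one_mul, ← e1, sub_self]
    exact sub_eq_zero.1 ((mul_eq_zero.1 this).resolve_right h)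
  have e3 : l = 1 := by
    have := congrArg conj e2
    rwa [Complex.conj_conj, map_one] at this
  have := hl 1
  rwa [one_mul, e3, one_mul] at this

/-- **Descent to `N / Z(N)`**, `N` a normal subgroup of `I`. -/
theorem imc_down {I : Type u} [Group I] [Finite I] (N : Subgroup I) [N.Normal] {χ : I → ℂ} (hχ : IsIrrCharacter I χ)
    (hf : FixAll p χ) {d : ℕ} (hd : χ 1 = d) (hz : ∀ z : N, z ∈ Subgroup.center N → χ z = χ 1) {a : ℕ}
    (h1 : p ^ a ∣ d) (h2 : ¬ p ^ a ∣ N.index) : IMC p (N ⧸ Subgroup.center N) := by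
  classical
  have := Fintype.ofFinite N
  obtain ⟨P⟩ : Nonempty (Sylow p N) := inferInstance
  have hα : IsCharacter N (χ ∘ N.subtype) := isCharacter_comp N.subtype (isIrr_isCharacter hχ)
  have hfP : Fix (P : Subgroup N) (χ ∘ N.subtype) := fix_comp N.subtype _ (hf _ (P.isPGroup'.map _))
  obtain ⟨θ, hθ, hθ', hθf⟩ := exists_constituent_fix hα _ hfP
  obtain ⟨e, h5, he⟩ := isIrr_apply_one hθ
  have := Fintype.ofFinite I
  obtain ⟨h3, h4⟩ := Cfsg.Agent.S0887.result N χ hχ θ hθ hθ' d e hd he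
  have h6 : ∀ z ∈ Subgroup.center N, θ z = θ 1 := fun z hzc => central_of_constituent hα hθ hθ' hzc (hz z hzc)
  obtain ⟨η, hη, hη'⟩ := exists_quot (Subgroup.center N) hθ h6
  have h7 : η 1 = e := by
    rw [← he, ← hη' 1]
    rfl
  have hηθ : η ∘ QuotientGroup.mk' (Subgroup.center N) = θ := funext hη'
  have h8 : charDegree η = e := H670.PSing.charDegree_eq_of h7
  refine ⟨⟨η, hη⟩, P.mapSurjective (QuotientGroup.mk'_surjective _), ?_, ?_⟩
  · change p ∣ charDegree η
    rw [h8]
    by_contra hre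
    have h8 : p ^ a ∣ d / e := by
      obtain ⟨f, rfl⟩ := h3
      rw [Nat.mul_div_cancel_left _ h5]
      exact (Nat.Coprime.pow_left a ((Nat.Prime.coprime_iff_not_dvd hp.out).2 hre)).dvd_of_dvd_mul_left h1
    exact h2 (h8.trans h4)
  · rw [← hηθ] at hθf
    exact fix_of_comp _ _ hθf

end down

section forms

open Cfsg.Agent.H477.HC Module

variable {K : Type u} [Field K] [Finite K] {V : Type v} [AddCommGroup V] [Module K V] [Finite V]
  [FiniteDimensional K V] {p : ℕ}

/-- the irreducible character of the isometry group, with fixed vectors -/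
theorem exists_char_fix (F : CForm K V) {k : ℕ} {W₀ : Submodule K V} (hW₀ : W₀ ∈ F.Om k) {Z : Kˣ → Prop}
    {c : GL (Fin k) K → ℂ} (hc : Cus K k F.σ Z c) (hfix : FixAll p c) :
    ∃ χ : F.iso → ℂ, IsIrrCharacter F.iso χ ∧ χ 1 = (dg F k : ℂ) ∧
      (∀ (z : F.iso) (a : Kˣ), Z a → (∀ v, (z : V ≃ₗ[K] V) v = (a : K) • v) → χ z = χ 1) ∧ FixAll p χ := by
  have := finite_Om F k
  have := finite_iso F
  let _ := Fintype.ofFinite (F.Om k)
  let _ := Fintype.ofFinite F.iso
  have hcl := isIrr_isClassFunction hc.irr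
  refine ⟨F.hc c (fun _ _ => 1), F.isIrr_hc_one hc.irr hc.cusp hc.dual hW₀, ?_, fun z a ha hz => ?_, ?_⟩
  · rw [F.hc_one hcl (fun _ _ => 1) (d := 1) (fun _ _ => rfl), hc.deg, mul_one]
    unfold dg
    rw [Nat.cast_mul]
  · exact F.hc_scalar hcl (fun _ _ => 1) hz (hc.scal a ha) (fun _ _ => rfl)
  · have e : F.hc c (fun _ _ => 1) = H53.HC.flagChar F.iso.subtype (F.Om k) c := by
      funext g
      unfold CForm.hc H53.HC.flagChar
      simp only [mul_one]
    rw [e]
    exact fixAll_flagChar F.iso.subtype (F.Om k) (isIrr_isCharacter hc.irr)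
      (fun W hW => ⟨inferInstance, hW.2⟩) ⟨W₀, hW₀⟩ hfix

end forms

end Cfsg.Agent.H661.SC
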